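import Groth.Agent.NeutralOpen27.Points
import Groth.Agent.S15351
import Groth.Agent.SecComp.Constructible
import Groth.Agent.LimTop.Descend
import Groth.Agent.RelDiv.SmoothDesc
import Groth.Agent.GrpScheme.SubgroupObj
import Mathlib

/-!
# The neutral component of a group scheme smooth along the unit section is an open subgroup
-/

set_option autoImplicit false
set_option backward.isDefEq.respectTransparency false

universe u

open CategoryTheory AlgebraicGeometry Limits MonoidalCategory CartesianMonoidalCategory MonObj GrpObj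
open TopologicalSpace Topology

namespace Groth.Agent.NeutralOpen27

variable {S : Scheme.{u}} (G : Over S) [GrpObj G]

/-- Lifting a smooth morphism along an open immersion keeps it smooth. -/
lemma smooth_lift {W N X : Scheme.{u}} (j : N ⟶ X) [IsOpenImmersion j] (g : W ⟶ X) [Smooth g]
    (c : W ⟶ N) (h : c ≫ j = g) : Smooth c := by
  have hp : IsPullback (𝟙 W) c g j := IsPullback.of_horiz_isIso_mono ⟨by simp [h]⟩
  exact MorphismProperty.of_isPullback (P := @Smooth) hp ‹_›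

/-- Near each point of the base the neutral components contain a quasi-compact open smooth over the
base through which the unit section passes. -/
lemma exists_smooth_nhd (U : G.left.Opens) (hU : Smooth (U.ι ≫ G.hom)) (he : ∀ t, unitSec G t ∈ U) (s : S) :
    ∃ (V : S.Opens) (O : G.left.Opens), IsAffineOpen V ∧ s ∈ V ∧ IsCompact (O : Set G.left) ∧
      (O : Set G.left) ⊆ SGA3x.neutralSet G ∧ O ≤ G.hom ⁻¹ᵁ V ∧
      (∀ t ∈ V, unitSec G t ∈ O) ∧ Smooth (O.ι ≫ G.hom) := by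
  let e := unitSec G
  obtain ⟨V₁, hV₁, hsV₁, -⟩ := exists_isAffineOpen_mem_and_subset (x := s) (U := ⊤) trivial
  obtain ⟨U₁, hU₁, heU₁, hU₁le⟩ := exists_isAffineOpen_mem_and_subset (x := e s) (U := U ⊓ G.hom ⁻¹ᵁ V₁)
    ⟨he s, by show G.hom (e s) ∈ V₁; rw [hom_unitSec]; exact hsV₁⟩
  obtain ⟨g, hg, hsg⟩ := hV₁.exists_basicOpen_le (V := e ⁻¹ᵁ U₁) ⟨s, heU₁⟩ hsV₁
  let V := S.basicOpen g
  let U' := G.left.basicOpen (G.hom.appLE V₁ U₁ (fun x hx => (hU₁le hx).2) g)
  have hU'eq : U' = U₁ ⊓ G.hom ⁻¹ᵁ V := by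
    simp only [U', V, Scheme.Hom.appLE, CommRingCat.comp_apply, Scheme.basicOpen_res, Scheme.preimage_basicOpen]
  have hle : U' ≤ G.hom ⁻¹ᵁ V := hU'eq.le.trans inf_le_right
  have heU' : V ≤ e ⁻¹ᵁ U' := fun t ht => by
    show e t ∈ U'
    rw [hU'eq]
    exact ⟨hg ht, by show G.hom (e t) ∈ V; rw [hom_unitSec]; exact ht⟩
  have : IsAffine (V : Scheme.{u}) := hV₁.basicOpen g
  have : IsAffine (U' : Scheme.{u}) := hU₁.basicOpen _
  have hsmU' : Smooth (U'.ι ≫ G.hom) := by
    have : Smooth (G.left.homOfLE (show U' ≤ U from fun x hx => (hU₁le (hU'eq.le hx).1).1) ≫ U.ι ≫ G.hom) :=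
      inferInstance
    rwa [← Category.assoc, Scheme.homOfLE_ι] at this
  let f' : (U' : Scheme.{u}) ⟶ V := G.hom.resLE V U' hle
  let σ : (V : Scheme.{u}) ⟶ U' := e.resLE U' V heU'
  have hf' : Smooth f' := smooth_lift V.ι (U'.ι ≫ G.hom) f' (Scheme.Hom.resLE_comp_ι ..)
  have hσ : σ ≫ f' = 𝟙 _ := by
    rw [← cancel_mono V.ι]
    simp only [σ, f', Category.assoc, Scheme.Hom.resLE_comp_ι, Scheme.Hom.resLE_comp_ι_assoc]
    rw [unitSec_hom, Category.comp_id, Category.id_comp]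
  let O' : (U' : Scheme.{u}).Opens := ⟨MoreMor.sectionComponents f' σ, S15351.result f' σ hσ⟩
  have hfval : ∀ w : (U' : Scheme.{u}), (f' w).1 = G.hom w.1 := fun w => by
    show V.ι (f' w) = G.hom (U'.ι w)
    rw [← Scheme.Hom.comp_apply, Scheme.Hom.resLE_comp_ι, Scheme.Hom.comp_apply]
  have hσval : ∀ t : (V : Scheme.{u}), (σ t).1 = e t.1 := fun t => by
    show U'.ι (σ t) = e (V.ι t)
    rw [← Scheme.Hom.comp_apply, Scheme.Hom.resLE_comp_ι, Scheme.Hom.comp_apply]
  refine ⟨V, U'.ι ''ᵁ O', hV₁.basicOpen g, hsg, ?_, ?_, ?_, ?_, ?_⟩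
  · have : IsConstructible (MoreMor.sectionComponents f' σ) :=
      (SecComp.isLocallyConstructible_sectionComponents f' σ hσ).isConstructible
    exact (LimTop.isCompact_of_isConstructible this).image U'.ι.continuous
  · rintro _ ⟨z, hz, rfl⟩
    rw [mem_neutralSet]
    have hsub : U'.ι '' connectedComponentIn (f' ⁻¹' {f' z}) (σ (f' z)) ⊆
        connectedComponentIn (G.hom ⁻¹' {G.hom (U'.ι z)}) (unitSec G (G.hom (U'.ι z))) := by
      refine (isPreconnected_connectedComponentIn.image _ U'.ι.continuous.continuousOn).subset_connectedComponentIn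
        ⟨σ (f' z), mem_connectedComponentIn ?_, ?_⟩ ?_
      · show f' (σ (f' z)) = f' z
        rw [← Scheme.Hom.comp_apply, hσ]
        rfl
      · show (σ (f' z)).1 = _
        rw [hσval, hfval]
        rfl
      · rintro _ ⟨w, hw, rfl⟩
        have hw' := connectedComponentIn_subset _ _ hw
        have hw'' : f' w = f' z := hw'
        show G.hom w.1 = G.hom z.1
        rw [← hfval, hw'', hfval]
    exact hsub ⟨z, hz, rfl⟩
  · rintro _ ⟨z, -, rfl⟩
    exact hle z.2
  · intro t ht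
    refine ⟨σ ⟨t, ht⟩, ?_, hσval ⟨t, ht⟩⟩
    show σ ⟨t, ht⟩ ∈ connectedComponentIn (f' ⁻¹' {f' (σ ⟨t, ht⟩)}) (σ (f' (σ ⟨t, ht⟩)))
    have : f' (σ ⟨t, ht⟩) = ⟨t, ht⟩ := by rw [← Scheme.Hom.comp_apply, hσ]; rfl
    rw [this]
    exact mem_connectedComponentIn this
  · have hleU : U'.ι ''ᵁ O' ≤ U' := by rintro _ ⟨z, -, rfl⟩; exact z.2
    have : Smooth (G.left.homOfLE hleU ≫ U'.ι ≫ G.hom) := inferInstance
    rwa [← Category.assoc, Scheme.homOfLE_ι] at this

/-- Products of points of a quasi-compact open of the neutral components smooth over the base. -/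
lemma exists_mul_open (V : S.Opens) (hV : IsAffineOpen V) (O : G.left.Opens)
    (hOc : IsCompact (O : Set G.left)) (hOn : (O : Set G.left) ⊆ SGA3x.neutralSet G)
    (hOV : O ≤ G.hom ⁻¹ᵁ V) (heO : ∀ t ∈ V, unitSec G t ∈ O) [Smooth (O.ι ≫ G.hom)] :
    ∃ N : G.left.Opens, (N : Set G.left) = SGA3x.neutralSet G ∩ G.hom ⁻¹' V ∧
      IsCompact (N : Set G.left) ∧ Smooth (N.ι ≫ G.hom) := by
  let W : (G ⊗ G).left.Opens := (fst G G).left ⁻¹ᵁ O ⊓ (snd G G).left ⁻¹ᵁ O
  let A : (G ⊗ G).left.Opens := (fst G G).left ⁻¹ᵁ O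
  have hA : Smooth (A.ι ≫ (snd G G).left) := by
    have h1 : IsPullback (A.ι ≫ (snd G G).left) ((fst G G).left ∣_ O) G.hom (O.ι ≫ G.hom) :=
      (isPullback_morphismRestrict (fst G G).left O).flip.paste_horiz
        (IsPullback.of_hasPullback G.hom G.hom).flip
    exact MorphismProperty.of_isPullback (P := @Smooth) h1.flip ‹_›
  let φ := GrpScheme.Basic.shear (GrpScheme.Basic.leftAction G) (𝟙 G)
  have : IsIso φ.hom.left := GrpScheme.Basic.isIso_left φ.hom
  have hφ : φ.hom.left ≫ (fst G G).left = (fst G G).left := by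
    rw [← Over.comp_left]
    simp [φ, GrpScheme.Basic.shear]
  have hμ : φ.hom.left ≫ (snd G G).left = μ[G].left := by
    rw [← Over.comp_left, ← GrpScheme.Basic.mul_eq_shear_comp_snd]
  have hWA : Set.range (W.ι ≫ φ.hom.left) ⊆ Set.range A.ι := by
    rw [Scheme.Opens.range_ι]
    rintro _ ⟨w, rfl⟩
    show (fst G G).left (φ.hom.left (W.ι w)) ∈ O
    rw [← Scheme.Hom.comp_apply, hφ]
    exact w.2.1
  let l := IsOpenImmersion.lift A.ι (W.ι ≫ φ.hom.left) hWA
  have : IsOpenImmersion (l ≫ A.ι) := by rw [IsOpenImmersion.lift_fac]; infer_instance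
  have : IsOpenImmersion l := IsOpenImmersion.of_comp l A.ι
  have hm : Smooth (W.ι ≫ μ[G].left) := by
    rw [← hμ, ← Category.assoc, ← IsOpenImmersion.lift_fac A.ι (W.ι ≫ φ.hom.left) hWA, Category.assoc]
    infer_instance
  let N : G.left.Opens := ⟨Set.range (W.ι ≫ μ[G].left), (W.ι ≫ μ[G].left).isOpenMap.isOpen_range⟩
  have hN : (N : Set G.left) = SGA3x.neutralSet G ∩ G.hom ⁻¹' V := by
    refine Set.Subset.antisymm ?_ ?_
    · rintro _ ⟨w, rfl⟩
      rw [Scheme.Hom.comp_apply]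
      refine ⟨mul_mem G (W.ι w) (hOn w.2.1) (hOn w.2.2), ?_⟩
      show G.hom (μ[G].left (W.ι w)) ∈ V
      rw [← Scheme.Hom.comp_apply, Over.w, ← hom_fst]
      exact hOV w.2.1
    · rintro x ⟨hx, hxV⟩
      obtain ⟨p, hp1, hp2, hp⟩ := exists_mul G O (heO _ hxV) hx rfl
      exact ⟨⟨p, hp1, hp2⟩, hp⟩
  have hWc : IsCompact (W : Set (G ⊗ G).left) := by
    let fO : (O : Scheme.{u}) ⟶ V := G.hom.resLE V O hOV
    have : CompactSpace (O : Scheme.{u}) := isCompact_iff_compactSpace.mp hOc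
    have : IsAffine (V : Scheme.{u}) := hV
    have : QuasiCompact fO := quasiCompact_of_compactSpace fO
    have : CompactSpace ↥(pullback fO fO) := QuasiCompact.compactSpace_of_compactSpace (pullback.fst fO fO)
    have hr := Scheme.Pullback.range_map fO fO G.hom G.hom O.ι O.ι V.ι
      (Scheme.Hom.resLE_comp_ι G.hom hOV) (Scheme.Hom.resLE_comp_ι G.hom hOV)
    have hW : (W : Set (G ⊗ G).left) = Set.range (pullback.map fO fO G.hom G.hom O.ι O.ι V.ι
      (Scheme.Hom.resLE_comp_ι G.hom hOV) (Scheme.Hom.resLE_comp_ι G.hom hOV)) := by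
      rw [hr, Scheme.Opens.range_ι]
      rfl
    rw [hW]
    exact isCompact_range (Scheme.Hom.continuous _)
  refine ⟨N, hN, ?_, ?_⟩
  · have : CompactSpace (W : Scheme.{u}) := isCompact_iff_compactSpace.mp hWc
    exact isCompact_range (Scheme.Hom.continuous _)
  · have hrN : Set.range (W.ι ≫ μ[G].left) ⊆ Set.range N.ι := by rw [Scheme.Opens.range_ι]; exact subset_rfl
    let c := IsOpenImmersion.lift N.ι (W.ι ≫ μ[G].left) hrN
    have hc : c ≫ N.ι = W.ι ≫ μ[G].left := IsOpenImmersion.lift_fac _ _ hrN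
    have : Smooth c := smooth_lift N.ι (W.ι ≫ μ[G].left) c hc
    have : Surjective c := ⟨fun n => by
      obtain ⟨w, hw⟩ := n.2
      refine ⟨w, N.ι.injective ?_⟩
      rw [← Scheme.Hom.comp_apply, hc]
      exact hw⟩
    have : Smooth (W.ι ≫ (snd G G).left) := by
      have : Smooth ((G ⊗ G).left.homOfLE (show W ≤ A from inf_le_left) ≫ A.ι ≫ (snd G G).left) := inferInstance
      rwa [← Category.assoc, Scheme.homOfLE_ι] at this
    have hWO : Set.range (W.ι ≫ (snd G G).left) ⊆ Set.range O.ι := by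
      rw [Scheme.Opens.range_ι]
      rintro _ ⟨w, rfl⟩
      exact w.2.2
    let k := IsOpenImmersion.lift O.ι (W.ι ≫ (snd G G).left) hWO
    have hk : k ≫ O.ι = W.ι ≫ (snd G G).left := IsOpenImmersion.lift_fac _ _ hWO
    have : Smooth k := smooth_lift O.ι (W.ι ≫ (snd G G).left) k hk
    have : Smooth (c ≫ N.ι ≫ G.hom) := by
      rw [reassoc_of% hc, Over.w, ← snd_comp_hom, ← reassoc_of% hk]
      infer_instance
    exact RelDiv.smooth_of_fppf_comp c (N.ι ≫ G.hom)

/-- If a group scheme is smooth along the unit section, the union of the neutral components of the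
fibres is open and carries a smooth quasi-compact open subgroup scheme. -/
theorem exists_openSubgroup
    (hsm : ∃ U : G.left.Opens, Smooth (U.ι ≫ G.hom) ∧ ∀ p : ↥(𝟙_ (Over S)).left, η[G].left.base p ∈ U) :
    IsOpen (SGA3x.neutralSet G) ∧
    ∃ (G0 : Over S) (_ : GrpObj G0) (i : G0 ⟶ G), IsMonHom i ∧ IsOpenImmersion i.left ∧
      Set.range i.left.base = SGA3x.neutralSet G ∧ Smooth G0.hom ∧ QuasiCompact G0.hom := by
  obtain ⟨U, hU, he⟩ := hsm
  have key : ∀ s : S, ∃ (V : S.Opens) (N : G.left.Opens), IsAffineOpen V ∧ s ∈ V ∧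
      (N : Set G.left) = SGA3x.neutralSet G ∩ G.hom ⁻¹' V ∧ IsCompact (N : Set G.left) ∧ Smooth (N.ι ≫ G.hom) := by
    intro s
    obtain ⟨V, O, hV, hsV, hOc, hOn, hOV, heO, hO⟩ := exists_smooth_nhd G U hU he s
    obtain ⟨N, hN⟩ := exists_mul_open G V hV O hOc hOn hOV heO
    exact ⟨V, N, hV, hsV, hN⟩
  choose V N hV hsV hN hNc hNs using key
  have hopen : IsOpen (SGA3x.neutralSet G) := by
    refine isOpen_iff_forall_mem_open.mpr fun x hx => ⟨N (G.hom x), ?_, (N (G.hom x)).2, ?_⟩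
    · rw [hN]; exact Set.inter_subset_left
    · rw [hN]; exact ⟨hx, hsV _⟩
  refine ⟨hopen, ?_⟩
  let N₀ : G.left.Opens := ⟨SGA3x.neutralSet G, hopen⟩
  let H : Over S := Over.mk (N₀.ι ≫ G.hom)
  let i : H ⟶ G := Over.homMk N₀.ι rfl
  have : IsOpenImmersion i.left := inferInstanceAs (IsOpenImmersion N₀.ι)
  have : Mono i := Over.mono_of_mono_left _
  have hfac : ∀ {T : Over S} (a : T ⟶ G), (∀ t, a.left t ∈ SGA3x.neutralSet G) → ∃ b : T ⟶ H, b ≫ i = a := by
    intro T a ha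
    have hr : Set.range a.left ⊆ Set.range N₀.ι := by
      rw [Scheme.Opens.range_ι]
      rintro _ ⟨t, rfl⟩
      exact ha t
    refine ⟨Over.homMk (IsOpenImmersion.lift N₀.ι a.left hr) ?_, Over.OverMorphism.ext (IsOpenImmersion.lift_fac _ _ hr)⟩
    show IsOpenImmersion.lift N₀.ι a.left hr ≫ N₀.ι ≫ G.hom = _
    rw [IsOpenImmersion.lift_fac_assoc, Over.w]
  have hi : ∀ t : H.left, i.left t ∈ SGA3x.neutralSet G := fun t => t.2
  obtain ⟨hgrp, hmon⟩ := GrpScheme.SubgroupObj.exists_grpObj i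
    (hfac _ fun t => by
      show (((i ⊗ₘ i) ≫ μ[G]).left t) ∈ _
      rw [GrpScheme.Points.comp_apply]
      refine mul_mem G _ ?_ ?_
      · rw [← GrpScheme.Points.comp_apply, tensorHom_fst, GrpScheme.Points.comp_apply]
        exact hi _
      · rw [← GrpScheme.Points.comp_apply, tensorHom_snd, GrpScheme.Points.comp_apply]
        exact hi _)
    (hfac _ fun t => by
      rw [mem_neutralSet]
      show unitSec G t ∈ connectedComponentIn (G.hom ⁻¹' {G.hom (unitSec G t)}) (unitSec G (G.hom (unitSec G t)))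
      rw [hom_unitSec]
      exact mem_connectedComponentIn (hom_unitSec G t))
    (hfac _ fun t => by rw [GrpScheme.Points.comp_apply]; exact inv_mem G (hi t))
  refine ⟨H, hgrp, i, hmon, inferInstance, Scheme.Opens.range_ι N₀, ?_, ?_⟩
  · show Smooth (N₀.ι ≫ G.hom)
    have hcov : ⨆ s : S, N₀.ι ⁻¹ᵁ N s = ⊤ := by
      refine top_le_iff.mp fun x _ => Opens.mem_iSup.mpr ⟨G.hom x.1, ?_⟩
      show x.1 ∈ (N (G.hom x.1) : Set G.left)
      rw [hN]
      exact ⟨x.2, hsV _⟩
    refine (IsZariskiLocalAtSource.iff_of_iSup_eq_top (P := @Smooth) _ hcov).mpr fun s => ?_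
    have hr : Set.range ((N₀.ι ⁻¹ᵁ N s).ι ≫ N₀.ι) ⊆ Set.range (N s).ι := by
      rw [Scheme.Opens.range_ι]
      rintro _ ⟨w, rfl⟩
      exact w.2
    let k := IsOpenImmersion.lift (N s).ι ((N₀.ι ⁻¹ᵁ N s).ι ≫ N₀.ι) hr
    have hk : k ≫ (N s).ι = (N₀.ι ⁻¹ᵁ N s).ι ≫ N₀.ι := IsOpenImmersion.lift_fac _ _ hr
    have : IsOpenImmersion (k ≫ (N s).ι) := by rw [hk]; infer_instance
    have : IsOpenImmersion k := IsOpenImmersion.of_comp k (N s).ι
    have := hNs s
    rw [← reassoc_of% hk]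
    infer_instance
  · show QuasiCompact (N₀.ι ≫ G.hom)
    refine IsZariskiLocalAtTarget.of_iSup_eq_top (P := @QuasiCompact) V
      (top_le_iff.mp fun x _ => Opens.mem_iSup.mpr ⟨x, hsV x⟩) fun s => ?_
    have hc : IsCompact (((N₀.ι ≫ G.hom) ⁻¹ᵁ V s : (N₀ : Scheme.{u}).Opens) : Set (N₀ : Scheme.{u})) := by
      rw [N₀.ι.isOpenEmbedding.isEmbedding.isCompact_iff]
      convert hNc s
      rw [hN]
      ext x
      constructor
      · rintro ⟨w, hw, rfl⟩
        exact ⟨w.2, hw⟩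
      · rintro ⟨hx, hxV⟩
        exact ⟨⟨x, hx⟩, hxV, rfl⟩
    have : CompactSpace ((N₀.ι ≫ G.hom) ⁻¹ᵁ V s).toScheme := isCompact_iff_compactSpace.mp hc
    have : IsAffine (V s : Scheme.{u}) := hV s
    exact quasiCompact_of_compactSpace _

end Groth.Agent.NeutralOpen27
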