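import Groth.Agent.GrpArtin.Descend
import Groth.Agent.GrpScheme.IdSubgroup
import Groth.Agent.GrpScheme.DenseOpen
import Groth.Agent.SecComp.Basic
import Groth.Prelude.Def_SGA3x

/-!
# Points of the union of the neutral components of the fibres
-/

set_option autoImplicit false
set_option backward.isDefEq.respectTransparency false

universe u

open CategoryTheory AlgebraicGeometry Limits MonoidalCategory CartesianMonoidalCategory MonObj GrpObj
open TopologicalSpace

namespace Groth.Agent.NeutralOpen27

variable {S : Scheme.{u}} (G : Over S) [GrpObj G]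

/-- The unit section as a morphism of schemes. -/
noncomputable abbrev unitSec : S ⟶ G.left := η[G].left

lemma unitSec_hom : unitSec G ≫ G.hom = 𝟙 S := Over.w η[G]

lemma hom_unitSec (t : S) : G.hom (unitSec G t) = t := by
  rw [← Scheme.Hom.comp_apply, unitSec_hom]; rfl

lemma mem_neutralSet {x : G.left} : x ∈ SGA3x.neutralSet G ↔
    x ∈ connectedComponentIn (G.hom ⁻¹' {G.hom x}) (unitSec G (G.hom x)) := by
  refine Set.mem_iUnion.trans ⟨?_, fun h => ⟨G.hom x, h⟩⟩
  rintro ⟨p, hp⟩
  have hxp : G.hom x = (𝟙_ (Over S)).hom p := by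
    have h := connectedComponentIn_subset _ _ hp
    exact h
  rw [hxp]
  exact hp

/-- The fibre over a point, as a group scheme over the residue field. -/
noncomputable abbrev fib (s : S) : Over (Spec (CommRingCat.of (S.residueField s))) :=
  GrpArtin.bc (S.fromSpecResidueField s) G

/-- The inclusion of the fibre. -/
noncomputable abbrev fibι (s : S) : (fib G s).left ⟶ G.left :=
  GrpArtin.proj (S.fromSpecResidueField s) G

noncomputable instance (s : S) : GrpObj (fib G s) := GrpArtin.grpObjBC _ _

lemma hom_fibι (s : S) (z : (fib G s).left) : G.hom (fibι G s z) = s :=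
  (G.hom.range_fiberι s).le ⟨z, rfl⟩

lemma fibι_injective (s : S) : Function.Injective (fibι G s) :=
  (G.hom.fiberι s).isEmbedding.injective

lemma fibι_unit (s : S) :
    fibι G s (GrpScheme.IdComponent.e₀ (K := S.residueField s) (fib G s)) = unitSec G s := by
  show GrpArtin.proj (S.fromSpecResidueField s) G _ = _
  exact (GrpArtin.Descend.proj_unit _ _).trans (congrArg η[G].left (Scheme.fromSpecResidueField_apply s _))

lemma fibι_mem_iff {s : S} {z : (fib G s).left} : fibι G s z ∈ SGA3x.neutralSet G ↔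
    z ∈ connectedComponent (GrpScheme.IdComponent.e₀ (K := S.residueField s) (fib G s)) := by
  rw [mem_neutralSet, hom_fibι, ← fibι_unit]
  show G.hom.fiberι s z ∈ connectedComponentIn (G.hom ⁻¹' {s}) (G.hom.fiberι s _) ↔ _
  rw [SecComp.connectedComponentIn_fibre]
  exact (fibι_injective G s).mem_set_image

lemma fst_comp_hom : (fst G G).left ≫ G.hom = (G ⊗ G).hom := Over.w (fst G G)

lemma snd_comp_hom : (snd G G).left ≫ G.hom = (G ⊗ G).hom := Over.w (snd G G)

lemma hom_fst (p : (G ⊗ G).left) : G.hom ((fst G G).left p) = (G ⊗ G).hom p := by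
  rw [← Scheme.Hom.comp_apply, fst_comp_hom]

lemma down_comp {G' : Over S} {S' : Scheme.{u}} (f : S' ⟶ S) {T : Over S'} {H : Over S}
    (a : T ⟶ GrpArtin.bc f H) (m : H ⟶ G') :
    GrpArtin.down f (a ≫ (Over.pullback f).map m) = GrpArtin.down f a ≫ m := by
  refine Over.OverMorphism.ext ?_
  simp [GrpArtin.down]

/-- The union of the neutral components is stable under multiplication, pointwise. -/
theorem mul_mem (p : (G ⊗ G).left) (h1 : (fst G G).left p ∈ SGA3x.neutralSet G)
    (h2 : (snd G G).left p ∈ SGA3x.neutralSet G) : μ[G].left p ∈ SGA3x.neutralSet G := by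
  let s := (G ⊗ G).hom p
  let f := S.fromSpecResidueField s
  let P := GrpArtin.bc f (G ⊗ G)
  let q : P.left := (G ⊗ G).hom.asFiber p
  have hq : GrpArtin.proj f (G ⊗ G) q = p := (G ⊗ G).hom.fiberι_asFiber p
  let T := GrpScheme.Points.pointObj P q
  let h : T ⟶ P := GrpScheme.Points.pointHom P q
  let a : T ⟶ fib G s := h ≫ (Over.pullback f).map (fst G G)
  let b : T ⟶ fib G s := h ≫ (Over.pullback f).map (snd G G)
  have key : ∀ (m : G ⊗ G ⟶ G) (t : T.left), fibι G s ((h ≫ (Over.pullback f).map m).left t) = m.left p := by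
    intro m t
    show (GrpArtin.down f (h ≫ (Over.pullback f).map m)).left t = _
    rw [down_comp]
    show m.left (GrpArtin.proj f (G ⊗ G) (h.left t)) = _
    rw [GrpScheme.Points.pointHom_apply, hq]
  have ha : Set.range a.left ⊆ connectedComponent (GrpScheme.IdComponent.e₀ (K := S.residueField s) (fib G s)) := by
    rintro _ ⟨t, rfl⟩
    rw [← fibι_mem_iff, key]
    exact h1
  have hb : Set.range b.left ⊆ connectedComponent (GrpScheme.IdComponent.e₀ (K := S.residueField s) (fib G s)) := by
    rintro _ ⟨t, rfl⟩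
    rw [← fibι_mem_iff, key]
    exact h2
  obtain ⟨t⟩ := (inferInstance : Nonempty (GrpScheme.Points.pointObj P q).left)
  have hab := GrpScheme.IdSubgroup.mul_mem (K := S.residueField s) (fib G s) a b ha hb ⟨t, rfl⟩
  rw [← fibι_mem_iff] at hab
  have he : (GrpArtin.down f (a * b)).left t = μ[G].left p := by
    rw [GrpArtin.down_mul, down_comp, down_comp, ← MonObj.comp_mul, ← mul_eq_mul]
    show μ[G].left (GrpArtin.proj f (G ⊗ G) (h.left t)) = _
    rw [GrpScheme.Points.pointHom_apply, hq]
  rw [← he]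
  exact hab

/-- The union of the neutral components is stable under inversion, pointwise. -/
theorem inv_mem {x : G.left} (hx : x ∈ SGA3x.neutralSet G) : ι[G].left x ∈ SGA3x.neutralSet G := by
  rw [mem_neutralSet] at hx ⊢
  have hf : ∀ y, G.hom (ι[G].left y) = G.hom y := fun y => by
    rw [← Scheme.Hom.comp_apply, Over.w]
  have he : ι[G].left (unitSec G (G.hom x)) = unitSec G (G.hom x) := by
    have h : η[G] ≫ ι[G] = η[G] := by
      have := inv_one (G := 𝟙_ (Over S) ⟶ G)
      rw [Hom.one_def, toUnit_unit, Category.id_comp, Hom.inv_def] at this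
      exact this
    rw [← Scheme.Hom.comp_apply]
    exact congr(($h).left (G.hom x))
  rw [hf]
  refine (isPreconnected_connectedComponentIn.image _ ι[G].left.continuous.continuousOn).subset_connectedComponentIn
    ⟨unitSec G (G.hom x), mem_connectedComponentIn (hom_unitSec G _), he⟩ ?_ ⟨x, hx, rfl⟩
  rintro _ ⟨y, hy, rfl⟩
  have h := connectedComponentIn_subset _ _ hy
  exact (hf y).trans h

/-- Every point of a neutral component is a product of two points of a given open meeting it. -/
theorem exists_mul {s : S} (O : G.left.Opens) (hO : unitSec G s ∈ O) {x : G.left}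
    (hx : x ∈ SGA3x.neutralSet G) (hxs : G.hom x = s) :
    ∃ p : (G ⊗ G).left, (fst G G).left p ∈ O ∧ (snd G G).left p ∈ O ∧ μ[G].left p = x := by
  let f := S.fromSpecResidueField s
  let F := fib G s
  let I := GrpScheme.IdSubgroup.incl (K := S.residueField s) (fib G s)
  have : IrreducibleSpace (GrpScheme.IdSubgroup.G₀ (fib G s)).left := by
    rw [I.left.isClosedEmbedding.isEmbedding.toHomeomorph.irreducibleSpace_iff,
      ← isIrreducible_iff_irreducibleSpace, GrpScheme.IdSubgroup.range_incl,
      GrpScheme.IdComponent.connectedComponent_eq]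
    exact isIrreducible_irreducibleComponent
  let := GrpScheme.IdSubgroup.grpObj (K := S.residueField s) (fib G s)
  have hI : IsMonHom I :=
    ⟨(GrpScheme.IdSubgroup.exists_one (K := S.residueField s) (fib G s)).choose_spec,
      (GrpScheme.IdSubgroup.exists_mul (K := S.residueField s) (fib G s)).choose_spec⟩
  let U : (GrpScheme.IdSubgroup.G₀ (fib G s)).left.Opens := (I.left ≫ fibι G s) ⁻¹ᵁ O
  have hU : Dense (U : Set (GrpScheme.IdSubgroup.G₀ (fib G s)).left) := by
    refine U.2.dense ⟨η[GrpScheme.IdSubgroup.G₀ (fib G s)].left (IsLocalRing.closedPoint (S.residueField s)), ?_⟩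
    show fibι G s ((η[GrpScheme.IdSubgroup.G₀ (fib G s)] ≫ I).left _) ∈ O
    rw [IsMonHom.one_hom]
    show fibι G s (GrpScheme.IdComponent.e₀ (K := S.residueField s) (fib G s)) ∈ O
    rw [fibι_unit]
    exact hO
  obtain ⟨z, hz⟩ : ∃ z : F.left, fibι G s z = x := by
    obtain ⟨z, hz⟩ := (G.hom.range_fiberι s).ge (show x ∈ G.hom ⁻¹' {s} from hxs)
    exact ⟨z, hz⟩
  rw [← hz, fibι_mem_iff, ← GrpScheme.IdSubgroup.range_incl] at hx
  obtain ⟨y, rfl⟩ := hx
  obtain ⟨p, hp1, hp2, hp⟩ := GrpScheme.DenseOpen.exists_mul U U hU hU y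
  let g := lift (GrpArtin.down f (fst (GrpScheme.IdSubgroup.G₀ (fib G s)) (GrpScheme.IdSubgroup.G₀ (fib G s)) ≫ I)) (GrpArtin.down f (snd (GrpScheme.IdSubgroup.G₀ (fib G s)) (GrpScheme.IdSubgroup.G₀ (fib G s)) ≫ I))
  refine ⟨g.left p, ?_, ?_, ?_⟩
  · show (g ≫ fst G G).left p ∈ O
    rw [lift_fst]
    exact hp1
  · show (g ≫ snd G G).left p ∈ O
    rw [lift_snd]
    exact hp2
  · show (g ≫ μ[G]).left p = x
    rw [← Hom.mul_def, ← GrpArtin.down_mul, ← MonObj.mul_comp, ← mul_eq_mul, ← hz, ← hp]
    rfl

end Groth.Agent.NeutralOpen27
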